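import Cfsg.Agent.Lib.CoThreeClosed.Trees
import Cfsg.Agent.Lib.CoThreeSp6.Cover

/-!
**The closing argument for `Co₃`**: a subgroup isomorphic to `Sp₆(2)` which contains the centraliser, of order 384, of
one of its involutions is the whole group; and a group with a central involution which is a square and with such a
subgroup in the quotient is the non-split double cover.
-/

set_option autoImplicit false

namespace Cfsg.Agent.CoThreeClosed

open Cfsg.Agent.S3342Id Cfsg.Agent.S3342Id.Closure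
open Cfsg.Agent.Omega8Rec.Closed (InR Good Ctx)

/-- **`M` is everything.** -/
theorem eq_top {G : Type*} [Group G] [Finite G] (M : Subgroup G)
    (φ : ↥M ≃* Matrix.symplecticGroup (Fin 3) (ZMod 2)) {t : G} (ht : orderOf t = 2)
    (hcent : Subgroup.centralizer ({t} : Set G) ≤ M)
    (hcard : Nat.card (Subgroup.centralizer ({t} : Set G)) = 384) : M = ⊤ := by
  set θ0 : Sp62 →* G := M.subtype.comp φ.symm.toMonoidHom with hθ0
  have hinj : Function.Injective θ0 := M.subtype_injective.comp φ.symm.injective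
  have htt : t * t = 1 := by rw [← sq, ← ht, pow_orderOf_eq_one]
  have ht1 : t ≠ 1 := fun h => by rw [h, orderOf_one] at ht; norm_num at ht
  have htM : t ∈ M := hcent (Subgroup.mem_centralizer_singleton_iff.2 rfl)
  -- an involution of the image conjugate to `t` is of the first class
  have hclass : ∀ A : Sp62, IsConj t (θ0 A) → ∃ m, A = m * repE 0 * m⁻¹ := by
    intro A hA
    obtain ⟨g, hg⟩ := isConj_iff.1 hA
    have h2 : A * A = 1 := hinj (by
      rw [map_mul, map_one, ← hg]
      calc g * t * g⁻¹ * (g * t * g⁻¹) = g * (t * t) * g⁻¹ := by group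
        _ = 1 := by rw [htt]; group)
    have h1 : A ≠ 1 := fun e => ht1 (conj_eq_one_iff.1 (hg.trans (by rw [e, map_one])))
    obtain ⟨i, hi, m, hm⟩ := exists_class h2 h1
    rcases Nat.eq_zero_or_pos i with rfl | hpos
    · exact ⟨m, hm⟩
    exfalso
    have hd : 512 ∣ Nat.card (Subgroup.centralizer ({A} : Set Sp62)) := hm ▸ dvd_cent (by omega) m
    have hle : ((Subgroup.centralizer ({A} : Set Sp62)).map θ0).map (MulAut.conj g⁻¹).toMonoidHom ≤
        Subgroup.centralizer ({t} : Set G) := by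
      rintro _ ⟨_, ⟨x, hx, rfl⟩, rfl⟩
      have hx' : θ0 x * θ0 A = θ0 A * θ0 x := by
        rw [← map_mul, ← map_mul, Subgroup.mem_centralizer_singleton_iff.1 hx]
      refine Subgroup.mem_centralizer_singleton_iff.2 ?_
      show g⁻¹ * θ0 x * g⁻¹⁻¹ * t = t * (g⁻¹ * θ0 x * g⁻¹⁻¹)
      rw [← hg] at hx'
      calc g⁻¹ * θ0 x * g⁻¹⁻¹ * t = g⁻¹ * (θ0 x * (g * t * g⁻¹)) * g := by group
        _ = g⁻¹ * (g * t * g⁻¹ * θ0 x) * g := by rw [hx']
        _ = _ := by group
    have h := hd.trans ((Nat.card_congr ((Subgroup.equivMapOfInjective _ θ0 hinj).trans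
      (Subgroup.equivMapOfInjective _ _ (MulAut.conj g⁻¹).injective)).toEquiv).dvd.trans
      (Subgroup.card_dvd_of_le hle))
    rw [hcard] at h
    norm_num at h
  obtain ⟨m, hm⟩ := hclass (φ ⟨t, htM⟩) (isConj_iff.2 ⟨1, by simp [hθ0]⟩)
  -- adjust the copy
  set θ : Sp62 →* G := θ0.comp (MulAut.conj m).toMonoidHom with hθ
  have hθt : θ (repE 0) = t := by
    show θ0 (m * repE 0 * m⁻¹) = t
    rw [← hm]
    simp [hθ0]
  have hrange : θ.range = M := by
    ext x
    constructor
    · rintro ⟨y, rfl⟩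
      exact SetLike.coe_mem _
    · intro hx
      refine ⟨m⁻¹ * φ ⟨x, hx⟩ * m, ?_⟩
      show θ0 (m * (m⁻¹ * φ ⟨x, hx⟩ * m) * m⁻¹) = x
      rw [show m * (m⁻¹ * φ ⟨x, hx⟩ * m) * m⁻¹ = φ ⟨x, hx⟩ by group]
      simp [hθ0]
  have hθinj : Function.Injective θ := hinj.comp (MulAut.conj m).injective
  have H : Emb θ := by
    refine ⟨hθinj, ⟨fun g hg => hrange ▸ hcent (Subgroup.mem_centralizer_singleton_iff.2 (hθt ▸ hg)),
      by rw [hθt, htt], fun v hv hc => ?_⟩, ?_⟩
    · obtain ⟨A, rfl⟩ := hv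
      rw [hθt] at hc
      obtain ⟨n, hn⟩ := hclass (m * A * m⁻¹) hc
      refine ⟨θ (m⁻¹ * n), ⟨_, rfl⟩, ?_⟩
      rw [← map_inv, ← map_mul, ← map_mul]
      refine congrArg θ ?_
      rw [show m⁻¹ * n * repE 0 * (m⁻¹ * n)⁻¹ = m⁻¹ * (n * repE 0 * n⁻¹) * m by group, ← hn]
      group
    · rw [← hcard]
      refine Nat.card_le_card_of_injective
        (fun x => (⟨θ x.1, Subgroup.mem_centralizer_singleton_iff.2 (by
          rw [← hθt, ← map_mul, ← map_mul, Subgroup.mem_centralizer_singleton_iff.1 x.2])⟩ :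
          Subgroup.centralizer ({t} : Set G))) fun x y h => Subtype.ext (hθinj (congrArg (fun z : Subgroup.centralizer ({t} : Set G) => (z : G)) h))
  rw [← hrange]
  exact H.range_top

/-- A group with a central subgroup of order two generated by a square and quotient `Sp₆(2)` is the non-split
double cover. -/
theorem nonsplit {H : Type*} [Group H] [Finite H] (Z : Subgroup H) [Z.Normal] (hZ : Nat.card Z = 2)
    (hZc : Z ≤ Subgroup.center H) (e : H ⧸ Z ≃* Matrix.symplecticGroup (Fin 3) (ZMod 2)) {x : H}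
    (hx : x * x ∈ Z) (hx1 : x * x ≠ 1) :
    Cfsg.IsNonsplitDoubleCover H (Matrix.symplecticGroup (Fin 3) (ZMod 2)) := by
  have hcen : Subgroup.center H = Z := by
    refine le_antisymm (fun y hy => ?_) hZc
    have h : e (QuotientGroup.mk' Z y) ∈ Subgroup.center (Matrix.symplecticGroup (Fin 3) (ZMod 2)) := by
      rw [Subgroup.mem_center_iff]
      intro u
      obtain ⟨v, rfl⟩ := (e.surjective.comp (QuotientGroup.mk'_surjective Z)) u
      show e (QuotientGroup.mk' Z v) * _ = _ * e (QuotientGroup.mk' Z v)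
      rw [← map_mul, ← map_mul, ← map_mul, ← map_mul, Subgroup.mem_center_iff.1 hy v]
    rw [CoThreeSp6.center_spTwo, Subgroup.mem_bot, map_eq_one_iff _ e.injective] at h
    exact (QuotientGroup.eq_one_iff y).1 h
  refine ⟨hcen.symm ▸ hZ, ⟨(QuotientGroup.quotientMulEquivOfEq hcen).trans e⟩, fun L hL => ?_⟩
  have hidx : L.index = 2 := by
    have := hL.index_eq_card
    rw [this, hcen, hZ]
  have hsq : x * x ∈ L := Subgroup.mul_self_mem_of_index_two hidx x
  have h2 : x * x ∈ Subgroup.center H ⊓ L := ⟨hcen.symm ▸ hx, hsq⟩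
  rw [hL.disjoint.eq_bot, Subgroup.mem_bot] at h2
  exact hx1 h2

/-- **The non-split double cover**: the two results together. -/
theorem nonsplit_of_sub {H : Type*} [Group H] [Finite H] (Z : Subgroup H) [Z.Normal] (hZ : Nat.card Z = 2)
    (hZc : Z ≤ Subgroup.center H) {x : H} (hx : x * x ∈ Z) (hx1 : x * x ≠ 1) (M : Subgroup (H ⧸ Z))
    (φ : ↥M ≃* Matrix.symplecticGroup (Fin 3) (ZMod 2)) {t : H ⧸ Z} (ht : orderOf t = 2)
    (hcent : Subgroup.centralizer ({t} : Set (H ⧸ Z)) ≤ M)
    (hcard : Nat.card (Subgroup.centralizer ({t} : Set (H ⧸ Z))) = 384) :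
    Cfsg.IsNonsplitDoubleCover H (Matrix.symplecticGroup (Fin 3) (ZMod 2)) :=
  nonsplit Z hZ hZc (((Subgroup.topEquiv).symm.trans
    (MulEquiv.subgroupCongr (eq_top M φ ht hcent hcard).symm)).trans φ) hx hx1

end Cfsg.Agent.CoThreeClosed
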