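import Cfsg.Agent.Lib.CoThreeClosed.Model
import Cfsg.Agent.Lib.CoThreeClosed.Data

/-!
The checks of the certificate for the closing argument in `Sp₆(2)`.
-/

set_option autoImplicit false
set_option maxRecDepth 100000
set_option Elab.async false

namespace Cfsg.Agent.CoThreeClosed

open Cfsg.Agent.S3342Id.Closure Cfsg.Agent.S3342Id.Closure.Big Cfsg.Agent.S3298Sp

/-- A representative. -/
def repC (i : ℕ) : ℕ := wCode (repW.getD i [])

/-- The invariant of a class. -/
def repK (i : ℕ) : ℕ := kind (repC i)

/-- The centraliser of the first representative. -/
def centList : List ℕ := c1 :: centTree.map fun e => e.2.2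

/-- The codes of the invariants of the products with the members of `E`. -/
def sigK (E : List ℕ) (x : ℕ) : List ℕ := E.map fun e => kind (cmul e x)

/-- `p` or its product with a member of `E` has an invariant among `GI`. -/
def near (GI E : List ℕ) (p : ℕ) : Bool :=
  GI.contains (kind p) || E.any fun e => GI.contains (kind (cmul e p))

/-- No element of the first class in the centraliser of `E` carries one witness to `b`. -/
def qOK (E ka kc : List ℕ) (wb wa : List ℕ) : Bool :=
  centList.all fun x =>
    let q := cmul (cmul (wCode wb) x) (wCode wa.reverse)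
    !E.all (comm q) || !Nat.beq (kind q) (repK 0) || (sigK E q != ka && sigK E q != kc)

/-- A witness for `E`, given the test `next` for the products. -/
def nodeOK (E : List ℕ) (wa wc : List ℕ) (next : ℕ → Bool) : Bool :=
  let a := cjc wa (repC 0)
  let c := cjc wc (repC 0)
  let ka := sigK E a
  let kc := sigK E c
  E.all (comm a) && E.all (comm c) && ka != kc &&
    partW.all fun r =>
      let b := cjc (wa ++ r) (repC 0)
      b == a || !E.all (comm b) || (sigK E b != ka && sigK E b != kc) || next (cmul a b) ||
        (sigK E b != kc && qOK E ka kc (wa ++ r) wa)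

/-- The witness at a position. -/
def witA (i : ℕ) : List ℕ × List ℕ := witW.getD i ([], [])

/-- The test for the products of the first witness. -/
def nextOK (p : ℕ) : Bool :=
  near [repK 0] [repC 3] p || kidW.any fun k => k.1 == p &&
    nodeOK [p, repC 3, cmul (repC 3) p] k.2.1 k.2.2 (near [repK 0] [p, repC 3, cmul (repC 3) p])

theorem tree_first : nodeOK [repC 3] (witA 0).1 (witA 0).2 nextOK = true := by decide +kernel

theorem tree_second :
    nodeOK [repC 1] (witA 1).1 (witA 1).2 (near [repK 0, repK 3] [repC 1]) = true := by decide +kernel

theorem tree_third :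
    nodeOK [repC 2] (witA 2).1 (witA 2).2 (near [repK 0, repK 3, repK 1] [repC 2]) = true := by decide +kernel

theorem cent_gen : (centGen.all fun w => comm (wCode w) (repC 0)) = true := by decide +kernel

theorem cent_tree : (centTree.zipIdx.all fun e => Nat.blt e.1.2.1 (e.2 + 1) &&
    e.1.2.2 == cmul (wCode (centGen.getD e.1.1 [])) (centList.getD e.1.2.1 0)) = true := by decide +kernel

theorem cent_nodup : centList.Nodup ∧ centList.length = 384 := by decide +kernel

theorem part_complete : (centList.all fun x =>
    !Nat.beq (cmul x x) c1 || !Nat.beq (kind x) (repK 0) || partW.any fun r => cjc r (repC 0) == x) = true := by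
  decide +kernel

theorem syl_complete : ((List.range 512).all fun i => Nat.beq i 0 || !Nat.beq (cmul (sC i) (sC i)) c1 ||
    sylW.any fun e => e.1 == i && Nat.blt e.2.1 4 && cjc e.2.2 (repC e.2.1) == sC i) = true := by decide +kernel

theorem rep_kinds : ([repK 0, repK 1, repK 2, repK 3, kind c1] : List ℕ).Nodup := by decide +kernel

theorem rep_invol : ((List.range 4).all fun i => cmul (repC i) (repC i) == c1) = true := by decide +kernel

theorem rep_central : ([1, 2, 3].all fun i => (List.range 512).all fun s => comm (repC i) (sC s)) = true := by
  decide +kernel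

theorem fac_ok : cmul (cjc (facW.getD 0 []) (repC 1))
    (cmul (cjc (facW.getD 1 []) (repC 1)) (cjc (facW.getD 2 []) (repC 1))) = repC 0 := by decide +kernel

end Cfsg.Agent.CoThreeClosed
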