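import Cfsg.Agent.Lib.CoThreeClosed.Checks

/-!
The four classes of involutions of `Sp₆(2)` and the centraliser of the first representative.
-/

set_option autoImplicit false
set_option maxRecDepth 100000

namespace Cfsg.Agent.CoThreeClosed

open Cfsg.Agent.S3342Id Cfsg.Agent.S3342Id.Closure Cfsg.Agent.S3342Id.Closure.Big Cfsg.Agent.S3298Sp

attribute [local irreducible] kind

/-- A representative of a class of involutions. -/
def repE (i : ℕ) : Sp62 := el (repW.getD i [])

theorem code_repE (i : ℕ) : code (repE i) = repC i := code_el _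

theorem repE_sq {i : ℕ} (hi : i < 4) : repE i * repE i = 1 := by
  apply code_inj
  rw [code_mul, code_repE, code_one]
  exact beq_iff_eq.1 (List.all_eq_true.1 rep_invol i (List.mem_range.2 hi))

theorem repK_eq (i : ℕ) : kind (code (repE i)) = repK i := by rw [code_repE, repK]

theorem repK_inj : ∀ i < 4, ∀ j < 4, repK i = repK j → i = j := by
  intro i hi j hj h
  have hn := rep_kinds
  simp only [List.nodup_cons, List.mem_cons, List.not_mem_nil, or_false, not_or] at hn
  interval_cases i <;> interval_cases j <;> first | rfl | (exfalso; simp_all)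

theorem repK_one {i : ℕ} (hi : i < 4) : kind c1 ≠ repK i := by
  have hn := rep_kinds
  simp only [List.nodup_cons, List.mem_cons, List.not_mem_nil, or_false, not_or] at hn
  intro h
  interval_cases i <;> simp_all

theorem code_SS {A : Sp62} (hA : A ∈ SS) : ∃ i < 512, code A = sC i ∧ (i = 0 → A = 1) := by
  obtain ⟨g, hg, x, hx, rfl⟩ := hA
  refine ⟨64 * g + x, by omega, ?_, fun h => ?_⟩
  · rw [code_eq (rep_mul (rep_lE hg) (rep_rE hx)), sC,
      show (64 * g + x) / 64 = g by omega, show (64 * g + x) % 64 = x by omega]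
  · obtain ⟨rfl, rfl⟩ : g = 0 ∧ x = 0 := by omega
    rw [lE_zero, rE_zero, mul_one]

/-- Every involution is conjugate to a representative. -/
theorem exists_class {A : Sp62} (h2 : A * A = 1) (h1 : A ≠ 1) : ∃ i < 4, ∃ m, A = m * repE i * m⁻¹ := by
  haveI : Fact (Nat.Prime 2) := ⟨Nat.prime_two⟩
  obtain ⟨m, hm⟩ := exists_conj_SS (P := Subgroup.zpowers A) (IsPGroup.of_card (n := 1) (by
    rw [Nat.card_zpowers, orderOf_eq_prime (by rw [sq, h2]) h1, pow_one]))
  obtain ⟨i, hi, hc, h0⟩ := code_SS (hm A (Subgroup.mem_zpowers A))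
  have h := List.all_eq_true.1 syl_complete i (List.mem_range.2 hi)
  simp only [Bool.or_eq_true, Bool.not_eq_true', List.any_eq_true, Bool.and_eq_true, beq_iff_eq,
    Nat.blt_eq] at h
  rcases h with (h | h) | ⟨e, -, ⟨-, he⟩, hk⟩
  · exact absurd (conj_eq_one_iff.1 (h0 (Nat.eq_of_beq_eq_true h))) h1
  · have e2 : m * A * m⁻¹ * (m * A * m⁻¹) = 1 := by
      rw [show m * A * m⁻¹ * (m * A * m⁻¹) = m * (A * A) * m⁻¹ by group, h2, mul_one, mul_inv_cancel]
    rw [← hc, ← code_mul, e2, code_one, Nat.beq_refl] at h
    exact Bool.noConfusion h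
  · refine ⟨e.2.1, he, m⁻¹ * el e.2.2, ?_⟩
    rw [← code_repE, ← code_cj, ← hc] at hk
    have := code_inj hk
    calc A = m⁻¹ * (m * A * m⁻¹) * m := by group
      _ = _ := by rw [← this]; group

/-- An involution with the invariant of a representative is conjugate to it. -/
theorem class_of_kind {A : Sp62} (h2 : A * A = 1) {i : ℕ} (hi : i < 4) (h : kind (code A) = repK i) :
    ∃ m, A = m * repE i * m⁻¹ := by
  have h1 : A ≠ 1 := fun e => repK_one hi (by rw [← h, e, code_one])
  obtain ⟨j, hj, m, hm⟩ := exists_class h2 h1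
  have : repK j = repK i := by rw [← h, hm, kind_conj, repK_eq]
  exact ⟨m, repK_inj j hj i hi this ▸ hm⟩

/-- The three other classes are central in a Sylow two-subgroup. -/
theorem dvd_cent {i : ℕ} (hi : i = 1 ∨ i = 2 ∨ i = 3) (m : Sp62) :
    512 ∣ Nat.card (Subgroup.centralizer ({m * repE i * m⁻¹} : Set Sp62)) := by
  have hle : SS.map (MulAut.conj m).toMonoidHom ≤ Subgroup.centralizer ({m * repE i * m⁻¹} : Set Sp62) := by
    rintro _ ⟨s, hs, rfl⟩
    obtain ⟨k, hk, hc, -⟩ := code_SS hs
    have h := List.all_eq_true.1 (List.all_eq_true.1 rep_central i (by simp [hi])) k (List.mem_range.2 hk)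
    rw [← hc, ← code_repE, comm_iff] at h
    refine Subgroup.mem_centralizer_singleton_iff.2 ?_
    show m * s * m⁻¹ * (m * repE i * m⁻¹) = m * repE i * m⁻¹ * (m * s * m⁻¹)
    calc m * s * m⁻¹ * (m * repE i * m⁻¹) = m * (s * repE i) * m⁻¹ := by group
      _ = _ := by rw [← h]; group
  have h := Subgroup.card_dvd_of_le hle
  rwa [Subgroup.card_map_of_injective (MulAut.conj m).injective, card_SS] at h

theorem cent_entries : ∀ i < centList.length, ∃ A : Sp62, A * repE 0 = repE 0 * A ∧ code A = centList.getD i 0 := by
  intro i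
  induction i using Nat.strong_induction_on with
  | h i ih =>
    intro hi
    rcases i with _ | j
    · exact ⟨1, by rw [one_mul, mul_one], code_one⟩
    · rw [centList, List.length_cons, List.length_map] at hi
      have hj : j < centTree.length := by omega
      have h := List.all_eq_true.1 cent_tree (centTree[j], j)
        (List.mem_zipIdx_iff_getElem?.2 (List.getElem?_eq_getElem hj))
      simp only [Bool.and_eq_true, Nat.blt_eq, beq_iff_eq] at h
      obtain ⟨hp, he⟩ := h
      obtain ⟨B, hB, hBc⟩ := ih _ hp (by rw [centList, List.length_cons, List.length_map]; omega)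
      have hg : el (centGen.getD centTree[j].1 []) * repE 0 = repE 0 * el (centGen.getD centTree[j].1 []) := by
        rcases Nat.lt_or_ge centTree[j].1 centGen.length with hl | hl
        · have hc := List.all_eq_true.1 cent_gen _ (List.getElem_mem hl)
          rw [← List.getD_eq_getElem _ [] hl, ← code_el, ← code_repE, comm_iff] at hc
          exact hc
        · rw [List.getD_eq_default _ _ hl, el_nil, one_mul, mul_one]
      refine ⟨el (centGen.getD centTree[j].1 []) * B,
        ((show Commute (el (centGen.getD centTree[j].1 [])) (repE 0) from hg).mul_left hB).eq, ?_⟩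
      rw [code_mul, code_el, hBc, ← he, centList, List.getD_cons_succ,
        List.getD_eq_getElem _ _ (by rw [List.length_map]; exact hj), List.getElem_map]

/-- The list is the centraliser. -/
theorem mem_centList (hcard : Nat.card (Subgroup.centralizer ({repE 0} : Set Sp62)) ≤ 384) {A : Sp62}
    (hA : A * repE 0 = repE 0 * A) : code A ∈ centList := by
  classical
  haveI := Fintype.ofFinite Sp62
  set S := (Finset.univ : Finset Sp62).filter fun B => B * repE 0 = repE 0 * B with hS
  have hsub : centList.toFinset ⊆ S.image code := by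
    intro c hc
    obtain ⟨i, hi, rfl⟩ := List.getElem_of_mem (List.mem_toFinset.1 hc)
    obtain ⟨B, hB, hBc⟩ := cent_entries i hi
    rw [List.getD_eq_getElem _ _ hi] at hBc
    exact Finset.mem_image.2 ⟨B, Finset.mem_filter.2 ⟨Finset.mem_univ _, hB⟩, hBc⟩
  have hle : (S.image code).card ≤ centList.toFinset.card := by
    rw [List.toFinset_card_of_nodup cent_nodup.1, cent_nodup.2]
    refine le_trans (Finset.card_image_le.trans ?_) hcard
    rw [← Nat.card_eq_finsetCard]
    exact Nat.card_le_card_of_injective
      (fun B => (⟨B.1, Subgroup.mem_centralizer_singleton_iff.2 (Finset.mem_filter.1 B.2).2⟩ :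
        Subgroup.centralizer ({repE 0} : Set Sp62)))
      fun B B' h => Subtype.ext (congrArg (fun z : Subgroup.centralizer ({repE 0} : Set Sp62) => z.1) h)
  rw [← List.mem_toFinset, Finset.eq_of_subset_of_card_le hsub hle]
  exact Finset.mem_image_of_mem _ (Finset.mem_filter.2 ⟨Finset.mem_univ _, hA⟩)

end Cfsg.Agent.CoThreeClosed
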