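import Cfsg.Agent.Lib.Omega8Rec.Closed.Key

/-!
The dihedral step with conjugators: a conjugate outside a subgroup `M` of a member of the class of `t` and a member
inside give an involution in the centraliser of both, and the elements of the dihedral group which realise the
conjugacy lie in `M`.
-/

set_option autoImplicit false

namespace Cfsg.Agent.CoThreeClosed

open Cfsg.Agent.Omega8Rec.Closed (InR Good Ctx)

variable {G : Type*} [Group G]

/-- The element commutes with everything which commutes with `a` and `b`. -/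
def Cen (a b d : G) : Prop := ∀ e : G, e * a = a * e → e * b = b * e → e * d = d * e

/-- In a finite dihedral group: the generators are conjugate, or there is a central involution `w`; then `b` is
conjugate to `w * a`, or `a` is, by `d`, and `d * a` is conjugate to one of the generators. -/
theorem dihedral [Finite G] {a b : G} (ha : a * a = 1) (hb : b * b = 1) :
    (∃ d, Cen a b d ∧ d * b * d⁻¹ = a) ∨
      ∃ w : G, w ≠ 1 ∧ w * w = 1 ∧ w * a = a * w ∧ w * b = b * w ∧ Cen a b w ∧
        ((∃ d, Cen a b d ∧ d * b * d⁻¹ = w * a) ∨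
          ∃ d, Cen a b d ∧ d * a * d⁻¹ = w * a ∧
            ∃ f, Cen a b f ∧ (f * a * f⁻¹ = d * a ∨ f * b * f⁻¹ = d * a)) := by
  have hai : a⁻¹ = a := inv_eq_of_mul_eq_one_right ha
  have hbi : b⁻¹ = b := inv_eq_of_mul_eq_one_right hb
  have hC : ∀ k : ℕ, Cen a b ((a * b) ^ k) :=
    fun k e h1 h2 => (Commute.mul_right (show Commute e a from h1) h2).pow_right k
  have hCa : ∀ k : ℕ, Cen a b ((a * b) ^ k * a) :=
    fun k e h1 h2 => Commute.mul_right (hC k e h1 h2) h1
  have hinv : ∀ k : ℕ, b * ((a * b) ^ k)⁻¹ = (a * b) ^ k * b := by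
    intro k
    induction k with
    | zero => simp
    | succ k ih =>
      calc b * ((a * b) ^ (k + 1))⁻¹ = b * ((a * b)⁻¹ * ((a * b) ^ k)⁻¹) := by rw [pow_succ, mul_inv_rev]
        _ = (b * b) * a * ((a * b) ^ k)⁻¹ := by rw [mul_inv_rev, hai, hbi]; group
        _ = a * ((a * b) ^ k)⁻¹ := by rw [hb, one_mul]
        _ = a * (b * (b * ((a * b) ^ k)⁻¹)) := by rw [← mul_assoc b b, hb, one_mul]
        _ = a * b * ((a * b) ^ k * b) := by rw [ih, mul_assoc]
        _ = (a * b) ^ (k + 1) * b := by rw [← mul_assoc, ← pow_succ']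
  have hia : ∀ j : ℕ, a * ((a * b) ^ j)⁻¹ = (a * b) ^ j * a := by
    intro j
    have h := hinv j
    have h0 : a = a * b * b := by rw [mul_assoc, hb, mul_one]
    calc a * ((a * b) ^ j)⁻¹ = a * b * (b * ((a * b) ^ j)⁻¹) := by rw [← mul_assoc, ← h0]
      _ = a * b * (a * b) ^ j * b := by rw [h, mul_assoc, mul_assoc, mul_assoc]
      _ = (a * b) ^ j * (a * b * b) := by rw [← pow_succ', pow_succ, mul_assoc]
      _ = (a * b) ^ j * a := by rw [← h0]
  have hca : ∀ j : ℕ, (a * b) ^ j * a * ((a * b) ^ j)⁻¹ = (a * b) ^ (j + j) * a := fun j => by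
    rw [mul_assoc, hia, ← mul_assoc, ← pow_add]
  have hcb : ∀ j : ℕ, ((a * b) ^ j * a) * b * ((a * b) ^ j * a)⁻¹ = (a * b) ^ (2 * j + 1) * a := fun j => by
    calc (a * b) ^ j * a * b * ((a * b) ^ j * a)⁻¹
        = (a * b) ^ j * (a * b) * (a * ((a * b) ^ j)⁻¹) := by rw [mul_inv_rev, hai]; group
      _ = (a * b) ^ (2 * j + 1) * a := by rw [hia, ← pow_succ, ← mul_assoc, ← pow_add]; congr 2; omega
  rcases Nat.even_or_odd (orderOf (a * b)) with ⟨k, hk⟩ | ⟨k, hk⟩
  · right
    have hpos : 0 < orderOf (a * b) := orderOf_pos _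
    have hk1 : (a * b) ^ k * (a * b) ^ k = 1 := by rw [← pow_add, ← hk, pow_orderOf_eq_one]
    have hki : ((a * b) ^ k)⁻¹ = (a * b) ^ k := inv_eq_of_mul_eq_one_right hk1
    have hwb : (a * b) ^ k * b = b * (a * b) ^ k := by
      have := hinv k
      rw [hki] at this
      exact this.symm
    have hwa : (a * b) ^ k * a = a * (a * b) ^ k := by
      have h1 : Commute ((a * b) ^ k) (a * b) := (Commute.refl (a * b)).pow_left k
      have h2 : Commute ((a * b) ^ k) (a * b * b) := h1.mul_right hwb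
      rw [mul_assoc, hb, mul_one] at h2
      exact h2
    refine ⟨(a * b) ^ k, ?_, hk1, hwa, hwb, hC k, ?_⟩
    · intro h
      have := Nat.le_of_dvd (by omega) (orderOf_dvd_of_pow_eq_one h)
      omega
    · rcases Nat.even_or_odd k with ⟨j, rfl⟩ | ⟨j, rfl⟩
      · refine Or.inr ⟨(a * b) ^ j, hC j, hca j, ?_⟩
        rcases Nat.even_or_odd j with ⟨i, rfl⟩ | ⟨i, rfl⟩
        · exact ⟨(a * b) ^ i, hC i, Or.inl (hca i)⟩
        · exact ⟨(a * b) ^ i * a, hCa i, Or.inr (hcb i)⟩
      · exact Or.inl ⟨(a * b) ^ j * a, hCa j, hcb j⟩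
  · left
    refine ⟨(a * b) ^ (k + 1), hC _, ?_⟩
    rw [mul_assoc, hinv, ← mul_assoc, ← pow_add,
      show k + 1 + (k + 1) = orderOf (a * b) + 1 by omega, pow_succ, pow_orderOf_eq_one, one_mul, mul_assoc, hb,
      mul_one]

/-- The element commutes with the list. -/
def CommAll (E : List G) (g : G) : Prop := ∀ e ∈ E, g * e = e * g

/-- Conjugacy under the centraliser of `E` in `M`. -/
def ConjIn (M : Subgroup G) (E : List G) (u v : G) : Prop := ∃ h ∈ M, CommAll E h ∧ h * u * h⁻¹ = v

/-- **The step.** -/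
theorem key [Finite G] {M : Subgroup G} {t : G} (X : Ctx M t) (E : List G) {a c : G}
    (ha : InR M t a) (hc : InR M t c) (haE : CommAll E a) (hcE : CommAll E c) (hac : ¬ ConjIn M E c a)
    (hnext : ∀ a', InR M t a' → CommAll E a' → a * a' = a' * a → a' ≠ a →
      (ConjIn M E a a' ∨ ConjIn M E c a') →
      Good M ((a * a') :: E) ∨ (¬ ConjIn M E c a' ∧ ∀ q, InR M t q → CommAll E q → q * a * q⁻¹ = a' →
        ¬ ConjIn M E a q ∧ ¬ ConjIn M E c q)) :
    Good M E := by
  intro g hg
  by_contra hgM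
  set b := g * c * g⁻¹ with hbdef
  have hbM : b ∉ M := fun h => hgM (X.mem_of_conj hc h)
  have hbE : CommAll E b := by
    intro e he
    have h1 : Commute g e := hg e he
    exact (h1.mul_left (hcE e he)).mul_left h1.inv_left
  have hbb : b * b = 1 := by
    calc b * b = g * (c * c) * g⁻¹ := by rw [hbdef]; group
      _ = 1 := by rw [X.R_sq hc]; group
  have hcen : ∀ d, Cen a b d → CommAll E d := fun d hd e he => (hd e (haE e he).symm (hbE e he).symm).symm
  -- a conjugate of `b` in `M` comes from the centraliser in `M`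
  have hfb : ∀ d v, Cen a b d → v ∈ M → d * b * d⁻¹ = v → ConjIn M E c v := by
    intro d v hd hv e
    have e' : d * g * c * (d * g)⁻¹ = v := by rw [← e, hbdef]; group
    exact ⟨d * g, X.mem_of_conj hc (e'.symm ▸ hv),
      fun x hx => (show Commute d x from hcen d hd x hx).mul_left (hg x hx), e'⟩
  rcases dihedral (X.R_sq ha) hbb with ⟨d, hd, hda⟩ | ⟨w, hw1, hw2, hwa, hwb, hwc, hconj⟩
  · exact hac (hfb d a hd (X.R_mem ha) hda)
  · have hwM : w ∈ M := X.cent_R ha hwa
    have hwaM : w * a ∈ M := mul_mem hwM (X.R_mem ha)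
    have hwE : CommAll E w := hcen w hwc
    have hbt : IsConj t b := (X.R_isConj hc).trans (isConj_iff.2 ⟨g, rfl⟩)
    have hR : InR M t (w * a) := X.fus _ hwaM (by
      rcases hconj with ⟨d, -, e⟩ | ⟨d, -, e, -⟩
      · exact hbt.trans (isConj_iff.2 ⟨d, e⟩)
      · exact (X.R_isConj ha).trans (isConj_iff.2 ⟨d, e⟩))
    have hw' : a * (w * a) = w := by rw [← mul_assoc, ← hwa, mul_assoc, X.R_sq ha, mul_one]
    have hclass : ConjIn M E a (w * a) ∨ ConjIn M E c (w * a) := by
      rcases hconj with ⟨d, hd, e⟩ | ⟨d, hd, e, -⟩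
      · exact Or.inr (hfb d _ hd hwaM e)
      · exact Or.inl ⟨d, X.mem_of_conj ha (e.symm ▸ hwaM), hcen d hd, e⟩
    rcases hnext (w * a) hR (fun e he => (show Commute w e from hwE e he).mul_left (haE e he))
      (by rw [hw', mul_assoc, X.R_sq ha, mul_one]) (fun e => hw1 (mul_eq_right.1 e)) hclass with h | ⟨h1, h2⟩
    · rw [hw'] at h
      exact hbM (h b (List.forall_mem_cons.2 ⟨hwb.symm, hbE⟩))
    · rcases hconj with ⟨d, hd, e⟩ | ⟨d, hd, e, f, hf, hfq⟩
      · exact h1 (hfb d _ hd hwaM e)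
      · have hdM : d ∈ M := X.mem_of_conj ha (e.symm ▸ hwaM)
        have hqM : d * a ∈ M := mul_mem hdM (X.R_mem ha)
        have hqE : CommAll E (d * a) := fun x hx =>
          (show Commute d x from hcen d hd x hx).mul_left (haE x hx)
        have hqR : InR M t (d * a) := X.fus _ hqM (by
          rcases hfq with e' | e'
          · exact (X.R_isConj ha).trans (isConj_iff.2 ⟨f, e'⟩)
          · exact hbt.trans (isConj_iff.2 ⟨f, e'⟩))
        obtain ⟨n1, n2⟩ := h2 (d * a) hqR hqE (by
          rw [← e, mul_inv_rev]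
          calc d * a * a * (a⁻¹ * d⁻¹) = d * (a * a * a⁻¹) * d⁻¹ := by group
            _ = d * a * d⁻¹ := by rw [mul_inv_cancel_right])
        rcases hfq with e' | e'
        · exact n1 ⟨f, X.mem_of_conj ha (e'.symm ▸ hqM), hcen f hf, e'⟩
        · exact n2 (hfb f _ hf hqM e')

end Cfsg.Agent.CoThreeClosed
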