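import Cfsg.Agent.Lib.S3298Sp.Model

/-!
Codes of all elements of `Sp₆(2)`, words of transvections, and an invariant of conjugacy.
-/

set_option autoImplicit false
set_option maxRecDepth 100000

namespace Cfsg.Agent.CoThreeClosed

open Cfsg.Agent.CosetCert Cfsg.Agent.S3342Id Cfsg.Agent.S3342Id.Closure Cfsg.Agent.S3298Sp Matrix

theorem exists_rep (A : Sp62) : ∃ c, Rep A c := by
  have hm : A ∈ Subgroup.closure (tg '' {x | x < 7}) := closure_tg ▸ Subgroup.mem_top A
  induction hm using Subgroup.closure_induction_left with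
  | one => exact ⟨_, rep_one⟩
  | mul_left g hg m _ ih =>
    obtain ⟨i, hi, rfl⟩ := hg
    obtain ⟨c, hc⟩ := ih
    refine ⟨cmul (wcd [i]) c, ?_⟩
    have hw := rep_word (w := [i]) fun j hj => by rw [List.mem_singleton] at hj; rw [hj]; exact hi
    rw [show tg i = wprod tg [i] by simp [wprod_cons, wprod_nil]]
    exact rep_mul hw hc
  | inv_mul_cancel g hg m _ ih =>
    obtain ⟨i, hi, rfl⟩ := hg
    obtain ⟨c, hc⟩ := ih
    refine ⟨cmul (wcd [i]) c, ?_⟩
    rw [inv_eq_of_mul_eq_one_right (show tg i * tg i = 1 from tv_sq _)]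
    have hw := rep_word (w := [i]) fun j hj => by rw [List.mem_singleton] at hj; rw [hj]; exact hi
    rw [show tg i = wprod tg [i] by simp [wprod_cons, wprod_nil]]
    exact rep_mul hw hc

/-- The code of an element. -/
noncomputable def code (A : Sp62) : ℕ := (exists_rep A).choose

theorem rep_code (A : Sp62) : Rep A (code A) := (exists_rep A).choose_spec

theorem code_eq {A : Sp62} {c : ℕ} (h : Rep A c) : code A = c := rep_unique (rep_code A) h

theorem code_mul (A B : Sp62) : code (A * B) = cmul (code A) (code B) :=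
  code_eq (rep_mul (rep_code A) (rep_code B))

theorem code_one : code 1 = c1 := code_eq rep_one

theorem code_inj {A B : Sp62} (h : code A = code B) : A = B := rep_inj (rep_code A) (h ▸ rep_code B)

/-- The two codes commute. -/
def comm (a b : ℕ) : Bool := cmul a b == cmul b a

theorem comm_iff {A B : Sp62} : comm (code A) (code B) = true ↔ A * B = B * A := by
  rw [comm, beq_iff_eq, ← code_mul, ← code_mul]
  exact ⟨code_inj, fun h => by rw [h]⟩

/-- The product of the transvections of a word. -/
def wEl (w : List ℕ) : Sp62 := w.foldr (fun c A => T c * A) 1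

/-- Its code. -/
def wCode (w : List ℕ) : ℕ := w.foldr (fun c a => cmul (tcd (c % 64)) a) c1

/-- The element of a word with letters cut down to coded vectors. -/
def el (w : List ℕ) : Sp62 := wEl (w.map (· % 64))

theorem el_nil : el [] = 1 := rfl

theorem el_cons (c : ℕ) (w : List ℕ) : el (c :: w) = T (c % 64) * el w := rfl

theorem code_el (w : List ℕ) : code (el w) = wCode w := by
  induction w with
  | nil => exact code_one
  | cons c w ih => rw [el_cons, code_mul, ih, code_eq (rep_T (Nat.mod_lt c (by norm_num)))]; rfl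

theorem el_append (v w : List ℕ) : el (v ++ w) = el v * el w := by
  induction v with
  | nil => rw [List.nil_append, el_nil, one_mul]
  | cons c v ih => rw [List.cons_append, el_cons, el_cons, ih, mul_assoc]

theorem el_reverse (w : List ℕ) : el w.reverse = (el w)⁻¹ := by
  induction w with
  | nil => rw [List.reverse_nil, el_nil, inv_one]
  | cons c w ih => rw [List.reverse_cons, el_append, ih, el_cons c w, el_cons c [], el_nil, mul_one,
    _root_.mul_inv_rev, T_inv]

/-- The code of a conjugate by a word. -/
def cjc (w : List ℕ) (x : ℕ) : ℕ := cmul (cmul (wCode w) x) (wCode w.reverse)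

theorem code_cj (w : List ℕ) (A : Sp62) : code (el w * A * (el w)⁻¹) = cjc w (code A) := by
  rw [← el_reverse, code_mul, code_mul, code_el, code_el]
  rfl

/-- The number of fixed vectors. -/
def fixN (a : ℕ) : ℕ := ((List.range 64).filter fun x => apc a x == x).length

/-- Every vector is orthogonal to its image. -/
def altB (a : ℕ) : Bool := (List.range 64).all fun x => !bc x (apc a x)

/-- The invariant of conjugacy. -/
def kind (a : ℕ) : ℕ := fixN a + if altB a then 100 else 0

theorem conj_act (A B : Sp62) {x : ℕ} (hx : x < 64) :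
    apc (code (A * B * A⁻¹)) (apc (code A) x) = apc (code A) (apc (code B) x) := by
  refine sv_inj _ (apc_lt _ _) _ (apc_lt _ _) ?_
  rw [← apc_spec (rep_code (A * B * A⁻¹)) (apc_lt _ _), ← apc_spec (rep_code A) hx, ← act_mul,
    show A * B * A⁻¹ * A = A * B by group, act_mul, apc_spec (rep_code B) hx, apc_spec (rep_code A) (apc_lt _ _)]

theorem apc_code_inj (A : Sp62) {x y : ℕ} (hx : x < 64) (hy : y < 64) (h : apc (code A) x = apc (code A) y) :
    x = y := by
  have h' : A.1 *ᵥ sv x = A.1 *ᵥ sv y := by rw [apc_spec (rep_code A) hx, apc_spec (rep_code A) hy, h]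
  have := congrArg (fun v => (A⁻¹).1 *ᵥ v) h'
  simp only [← act_mul, inv_mul_cancel, act_one] at this
  exact sv_inj _ hx _ hy this

theorem fixN_le (A B : Sp62) : fixN (code B) ≤ fixN (code (A * B * A⁻¹)) := by
  unfold fixN
  rw [← List.toFinset_card_of_nodup (List.nodup_range.filter _),
    ← List.toFinset_card_of_nodup (List.nodup_range.filter _)]
  refine Finset.card_le_card_of_injOn (apc (code A)) ?_ ?_
  · intro x hx
    simp only [Finset.mem_coe, List.mem_toFinset, List.mem_filter, List.mem_range, beq_iff_eq] at hx ⊢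
    exact ⟨apc_lt _ _, by rw [conj_act A B hx.1, hx.2]⟩
  · intro x hx y hy h
    simp only [Finset.mem_coe, List.mem_toFinset, List.mem_filter, List.mem_range] at hx hy
    exact apc_code_inj A hx.1 hy.1 h

theorem altB_of_conj (A B : Sp62) (h : altB (code (A * B * A⁻¹)) = true) : altB (code B) = true := by
  unfold altB at h ⊢
  rw [List.all_eq_true] at h ⊢
  intro x hx
  rw [List.mem_range] at hx
  have h1 := h (apc (code A) x) (List.mem_range.2 (apc_lt _ _))
  simp only [conj_act A B hx, form_apc (rep_code A) hx (apc_lt _ _)] at h1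
  exact h1

theorem kind_conj (A B : Sp62) : kind (code (A * B * A⁻¹)) = kind (code B) := by
  have e : A⁻¹ * (A * B * A⁻¹) * A⁻¹⁻¹ = B := by group
  have h0 := fixN_le A⁻¹ (A * B * A⁻¹)
  rw [e] at h0
  have h1 : fixN (code (A * B * A⁻¹)) = fixN (code B) := le_antisymm h0 (fixN_le A B)
  have h3 := altB_of_conj A⁻¹ (A * B * A⁻¹)
  rw [e] at h3
  have h2 : altB (code (A * B * A⁻¹)) = altB (code B) := Bool.eq_iff_iff.2 ⟨altB_of_conj A B, h3⟩
  unfold kind
  rw [h1, h2]

end Cfsg.Agent.CoThreeClosed
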