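import Cfsg.Agent.Lib.CoThreeClosed.Key
import Cfsg.Agent.Lib.CoThreeClosed.Involutions

/-!
A copy of `Sp₆(2)` containing the centraliser of an involution of the class of 3780 contains the centralisers of all
its involutions.
-/

set_option autoImplicit false
set_option maxRecDepth 100000

namespace Cfsg.Agent.CoThreeClosed

open Cfsg.Agent.S3342Id Cfsg.Agent.S3342Id.Closure Cfsg.Agent.S3298Sp
open Cfsg.Agent.Omega8Rec.Closed (InR Good Ctx)

attribute [local irreducible] kind cmul centList partW

variable {G : Type*} [Group G]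

/-- The hypotheses. -/
structure Emb (θ : Sp62 →* G) : Prop where
  inj : Function.Injective θ
  ctx : Ctx θ.range (θ (repE 0))
  card : Nat.card (Subgroup.centralizer ({repE 0} : Set Sp62)) ≤ 384

variable {θ : Sp62 →* G}

namespace Emb

variable (H : Emb θ)

include H

theorem r_iff (A : Sp62) : InR θ.range (θ (repE 0)) (θ A) ↔ ∃ m, A = m * repE 0 * m⁻¹ := by
  constructor
  · rintro ⟨_, ⟨m, rfl⟩, e⟩
    exact ⟨m, H.inj (by rw [← e, map_mul, map_mul, map_inv])⟩
  · rintro ⟨m, rfl⟩
    exact ⟨θ m, ⟨m, rfl⟩, by rw [map_mul, map_mul, map_inv]⟩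

theorem r_kind {A : Sp62} (h : InR θ.range (θ (repE 0)) (θ A)) : kind (code A) = repK 0 := by
  obtain ⟨m, rfl⟩ := (H.r_iff A).1 h
  rw [kind_conj, repK_eq]

theorem r_sq {A : Sp62} (h : InR θ.range (θ (repE 0)) (θ A)) : A * A = 1 :=
  H.inj (by rw [map_mul, map_one, H.ctx.R_sq h])

theorem comm_map {A B : Sp62} : θ A * θ B = θ B * θ A ↔ A * B = B * A := by
  rw [← map_mul, ← map_mul, H.inj.eq_iff]

/-- The invariants of the products follow the conjugacy. -/
theorem sig_of_conjIn {E : List Sp62} {u v : Sp62} (h : ConjIn θ.range (E.map θ) (θ u) (θ v)) :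
    sigK (E.map code) (code v) = sigK (E.map code) (code u) := by
  obtain ⟨_, ⟨m, rfl⟩, hm, e⟩ := h
  have e' : v = m * u * m⁻¹ := H.inj (by rw [← e, map_mul, map_mul, map_inv])
  unfold sigK
  rw [List.map_map, List.map_map]
  refine List.map_congr_left fun x hx => ?_
  have hx' : Commute m x := H.comm_map.1 (hm (θ x) (List.mem_map_of_mem hx))
  show kind (cmul (code x) (code v)) = kind (cmul (code x) (code u))
  rw [← code_mul, ← code_mul, e', show x * (m * u * m⁻¹) = m * (x * u) * m⁻¹ by
    rw [← mul_assoc, ← mul_assoc, hx'.eq.symm, mul_assoc m x u], kind_conj]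

theorem good_conj {A : Sp62} (h : Good θ.range [θ A]) (m : Sp62) : Good θ.range [θ (m * A * m⁻¹)] := by
  intro g hg
  have hg' : g * θ (m * A * m⁻¹) = θ (m * A * m⁻¹) * g := hg _ (List.mem_singleton_self _)
  rw [map_mul, map_mul, map_inv] at hg'
  have hk : (θ m)⁻¹ * g * θ m ∈ θ.range := h _ fun e he => by
    rw [List.mem_singleton.1 he]
    calc (θ m)⁻¹ * g * θ m * θ A = (θ m)⁻¹ * (g * (θ m * θ A * (θ m)⁻¹)) * θ m := by group
      _ = (θ m)⁻¹ * (θ m * θ A * (θ m)⁻¹ * g) * θ m := by rw [hg']
      _ = _ := by group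
  rw [show g = θ m * ((θ m)⁻¹ * g * θ m) * (θ m)⁻¹ by group]
  exact mul_mem (mul_mem ⟨m, rfl⟩ hk) (inv_mem ⟨m, rfl⟩)

theorem good_zero : Good θ.range [θ (repE 0)] := fun g hg =>
  H.ctx.cent g (hg _ (List.mem_singleton_self _))

/-- `A` is a conjugate of `x`, read from codes. -/
theorem eq_cj (w : List ℕ) (i : ℕ) {A : Sp62} (h : cjc w (repC i) = code A) : el w * repE i * (el w)⁻¹ = A :=
  code_inj (by rw [code_cj, code_repE, h])

/-- **A witness pulls the centraliser of `E` into the image.** -/
theorem node_sound [Finite G] (E : List Sp62) (wa wc : List ℕ) (next : ℕ → Bool)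
    (h : nodeOK (E.map code) wa wc next = true)
    (hn : ∀ p : Sp62, p * p = 1 → (∀ e ∈ E, p * e = e * p) → next (code p) = true →
      Good θ.range (θ p :: E.map θ)) :
    Good θ.range (E.map θ) := by
  rw [nodeOK] at h
  simp only [Bool.and_eq_true, List.all_map, List.all_eq_true, Function.comp, bne_iff_ne] at h
  obtain ⟨⟨⟨haE, hcE⟩, hne⟩, hall⟩ := h
  set A := el wa * repE 0 * (el wa)⁻¹ with hA
  set C := el wc * repE 0 * (el wc)⁻¹ with hC
  have hAc : code A = cjc wa (repC 0) := by rw [hA, code_cj, code_repE]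
  have hCc : code C = cjc wc (repC 0) := by rw [hC, code_cj, code_repE]
  rw [← hAc, ← hCc] at hne
  have hAR : InR θ.range (θ (repE 0)) (θ A) := (H.r_iff A).2 ⟨_, rfl⟩
  have hAA : A * A = 1 := H.r_sq hAR
  have hcall : ∀ (B : Sp62), (∀ e ∈ E, comm (code B) (code e) = true) → CommAll (E.map θ) (θ B) := by
    intro B hB e he
    obtain ⟨x, hx, rfl⟩ := List.mem_map.1 he
    exact H.comm_map.2 (comm_iff.1 (hB x hx))
  refine key H.ctx (E.map θ) hAR ((H.r_iff C).2 ⟨_, rfl⟩)
    (hcall A fun e he => by rw [hAc]; exact haE e he) (hcall C fun e he => by rw [hCc]; exact hcE e he)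
    (fun hc => hne (H.sig_of_conjIn hc)) ?_
  intro a' ha' ha'E hcomm hne' hclass
  obtain ⟨B, rfl⟩ : ∃ B, θ B = a' := H.ctx.R_mem ha'
  have hBE : ∀ e ∈ E, B * e = e * B := fun e he => H.comm_map.1 (ha'E (θ e) (List.mem_map_of_mem he))
  have hAB : A * B = B * A := H.comm_map.1 hcomm
  obtain ⟨n, hn'⟩ := (H.r_iff B).1 ha'
  -- the conjugator of the product
  set R := (el wa)⁻¹ * B * el wa with hR
  have hRc : R * repE 0 = repE 0 * R := by
    calc R * repE 0 = (el wa)⁻¹ * (B * A) * el wa := by rw [hR, hA]; group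
      _ = (el wa)⁻¹ * (A * B) * el wa := by rw [hAB]
      _ = repE 0 * R := by rw [hR, hA]; group
  have hRR : R * R = 1 := by
    rw [hR, show (el wa)⁻¹ * B * el wa * ((el wa)⁻¹ * B * el wa) = (el wa)⁻¹ * (B * B) * el wa by group,
      H.r_sq ha', mul_one, inv_mul_cancel]
  have hRk : kind (code R) = repK 0 := by
    rw [hR, show (el wa)⁻¹ * B * el wa = (el wa)⁻¹ * B * (el wa)⁻¹⁻¹ by group, kind_conj, H.r_kind ha']
  have hpc := List.all_eq_true.1 part_complete _ (mem_centList H.card hRc)
  simp only [Bool.or_eq_true, Bool.not_eq_true', List.any_eq_true, beq_iff_eq] at hpc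
  rcases hpc with (hpc | hpc) | ⟨r, hr, hrR⟩
  · rw [← code_mul, hRR, code_one, Nat.beq_refl] at hpc
    exact Bool.noConfusion hpc
  · rw [hRk, Nat.beq_refl] at hpc
    exact Bool.noConfusion hpc
  have hB : B = el (wa ++ r) * repE 0 * (el (wa ++ r))⁻¹ := by
    have e := H.eq_cj r 0 hrR
    calc B = el wa * R * (el wa)⁻¹ := by rw [hR]; group
      _ = _ := by rw [el_append, ← e]; group
  have hBc : code B = cjc (wa ++ r) (repC 0) := by rw [hB, code_cj, code_repE]
  have hh := hall r hr
  simp only [← hBc, ← hAc, ← hCc, Bool.or_eq_true, Bool.and_eq_true, beq_iff_eq, Bool.not_eq_true',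
    bne_iff_ne] at hh
  have hclass' : sigK (E.map code) (code B) = sigK (E.map code) (code A) ∨
      sigK (E.map code) (code B) = sigK (E.map code) (code C) :=
    hclass.imp H.sig_of_conjIn H.sig_of_conjIn
  rcases hh with (((e | e) | ⟨e1, e2⟩) | e) | ⟨e1, e2⟩
  · exact absurd (by rw [code_inj e]) hne'
  · exfalso
    have hBall : ((E.map code).all fun x => comm (code B) x) = true :=
      List.all_eq_true.2 fun x hx => by
        obtain ⟨y, hy, rfl⟩ := List.mem_map.1 hx
        exact comm_iff.2 (hBE y hy)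
    rw [List.all_map] at hBall
    exact absurd (e.symm.trans hBall) Bool.false_ne_true
  · exact (hclass'.elim e1 e2).elim
  · left
    rw [← map_mul]
    refine hn (A * B) ?_ ?_ (by rwa [code_mul])
    · calc A * B * (A * B) = A * (B * A) * B := by group
        _ = (A * A) * (B * B) := by rw [← hAB]; group
        _ = 1 := by rw [hAA, H.r_sq ha', mul_one]
    · intro e he
      exact ((show Commute A e from comm_iff.1 (by rw [hAc]; exact haE e he)).mul_left (hBE e he)).eq
  · refine Or.inr ⟨fun hc => e1 (H.sig_of_conjIn hc), ?_⟩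
    intro q hqR hqE hqa
    obtain ⟨Q, rfl⟩ : ∃ Q, θ Q = q := H.ctx.R_mem hqR
    have hQA : Q * A * Q⁻¹ = B := H.inj (by rw [map_mul, map_mul, map_inv, hqa])
    set x := (el (wa ++ r))⁻¹ * Q * el wa with hx
    have hxc : x * repE 0 = repE 0 * x := by
      calc x * repE 0 = (el (wa ++ r))⁻¹ * (Q * A * Q⁻¹) * Q * el wa := by rw [hx, hA]; group
        _ = repE 0 * x := by rw [hQA, hB, hx]; group
    rw [qOK, List.all_eq_true] at e2
    have h := e2 _ (mem_centList H.card hxc)
    have hQx : el (wa ++ r) * x * el wa.reverse = Q := by rw [el_reverse, hx]; group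
    have hQc : cmul (cmul (wCode (wa ++ r)) (code x)) (wCode wa.reverse) = code Q :=
      (by rw [code_mul, code_mul, code_el, code_el] :
        code (el (wa ++ r) * x * el wa.reverse) = cmul (cmul (wCode (wa ++ r)) (code x)) (wCode wa.reverse)).symm.trans
        (congrArg code hQx)
    simp only [hQc] at h
    simp only [Bool.or_eq_true, Bool.and_eq_true, Bool.not_eq_true', bne_iff_ne] at h
    rcases h with (h | h) | ⟨h1, h2⟩
    · exfalso
      have hQall : ((E.map code).all fun y => comm (code Q) y) = true :=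
        List.all_eq_true.2 fun y hy => by
          obtain ⟨z, hz, rfl⟩ := List.mem_map.1 hy
          exact comm_iff.2 (H.comm_map.1 (hqE (θ z) (List.mem_map_of_mem hz)))
      exact absurd (h.symm.trans hQall) Bool.false_ne_true
    · rw [H.r_kind hqR, Nat.beq_refl] at h
      exact Bool.noConfusion h
    · exact ⟨fun hc => h1 (H.sig_of_conjIn hc), fun hc => h2 (H.sig_of_conjIn hc)⟩

/-- The classes with invariant in the list are settled. -/
def Settled (θ : Sp62 →* G) (GI : List ℕ) : Prop :=
  ∀ A : Sp62, A * A = 1 → kind (code A) ∈ GI → Good θ.range [θ A]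

theorem good_near {GI : List ℕ} (hG : Settled θ GI) (E : List Sp62) (hE : ∀ e ∈ E, e * e = 1) {p : Sp62}
    (hp : p * p = 1) (hpE : ∀ e ∈ E, p * e = e * p) (h : near GI (E.map code) (code p) = true) :
    Good θ.range (θ p :: E.map θ) := by
  intro g hg
  obtain ⟨h1, h2⟩ := List.forall_mem_cons.1 hg
  rw [near, Bool.or_eq_true, List.any_map, List.any_eq_true] at h
  rcases h with h | ⟨e, he, h⟩
  · exact hG p hp (List.contains_iff_mem.1 h) g (by simpa using h1)
  · simp only [Function.comp] at h
    rw [← code_mul] at h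
    refine hG (e * p) ?_ (List.contains_iff_mem.1 h) g ?_
    · calc e * p * (e * p) = e * (p * e) * p := by group
        _ = (e * e) * (p * p) := by rw [hpE e he]; group
        _ = 1 := by rw [hE e he, hp, mul_one]
    · intro x hx
      rw [List.mem_singleton.1 hx, map_mul]
      exact ((show Commute g (θ e) from h2 _ (List.mem_map_of_mem he)).mul_right h1).eq

theorem settled_zero : Settled θ [repK 0] := by
  intro A hA hk
  obtain ⟨m, rfl⟩ := class_of_kind hA (by norm_num : 0 < 4) (List.mem_singleton.1 hk)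
  exact H.good_conj H.good_zero m

theorem settled_cons {i : ℕ} (hi : i < 4) (h : Good θ.range [θ (repE i)]) {GI : List ℕ} (hG : Settled θ GI) :
    Settled θ (GI ++ [repK i]) := by
  intro A hA hk
  rcases List.mem_append.1 hk with hk | hk
  · exact hG A hA hk
  · obtain ⟨m, rfl⟩ := class_of_kind hA hi (List.mem_singleton.1 hk)
    exact H.good_conj h m

theorem good_three [Finite G] : Good θ.range [θ (repE 3)] := by
  have h := tree_first
  rw [← code_repE 3] at h
  refine H.node_sound [repE 3] _ _ _ h fun p hp hpE hn => ?_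
  rw [nextOK, Bool.or_eq_true, List.any_eq_true] at hn
  have h3 : ∀ e ∈ [repE 3], e * e = 1 := fun e he => by
    rw [List.mem_singleton.1 he]; exact repE_sq (by norm_num)
  rw [← code_repE 3] at hn
  rcases hn with hn | ⟨k, -, hk⟩
  · exact good_near H H.settled_zero [repE 3] h3 hp hpE hn
  · rw [Bool.and_eq_true, beq_iff_eq] at hk
    rw [← code_mul] at hk
    obtain ⟨-, hk⟩ := hk
    have hc := hpE _ (List.mem_singleton_self _)
    have hE : ∀ e ∈ [p, repE 3, repE 3 * p], e * e = 1 := by
      intro e he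
      simp only [List.mem_cons, List.not_mem_nil, or_false] at he
      rcases he with rfl | rfl | rfl
      · exact hp
      · exact repE_sq (by norm_num)
      · calc repE 3 * p * (repE 3 * p) = repE 3 * (p * repE 3) * p := by group
          _ = (repE 3 * repE 3) * (p * p) := by rw [hc]; group
          _ = 1 := by rw [repE_sq (by norm_num), hp, mul_one]
    have hg := H.node_sound [p, repE 3, repE 3 * p] _ _ _ hk fun q hq hqE hq' =>
      good_near H H.settled_zero _ hE hq hqE hq'
    intro g hg'
    obtain ⟨h1, h2⟩ := List.forall_mem_cons.1 hg'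
    have h2' : g * θ (repE 3) = θ (repE 3) * g := h2 _ (List.mem_map_of_mem (List.mem_singleton_self _))
    refine hg g fun e he => ?_
    simp only [List.map_cons, List.map_nil, List.mem_cons, List.not_mem_nil, or_false] at he
    rcases he with rfl | rfl | rfl
    · exact h1
    · exact h2'
    · rw [map_mul]
      exact ((show Commute g (θ (repE 3)) from h2').mul_right h1).eq

theorem good_single [Finite G] {i : ℕ} (hi : i < 4) {GI : List ℕ} (hG : Settled θ GI) (j : ℕ)
    (h : nodeOK [repC i] (witA j).1 (witA j).2 (near GI [repC i]) = true) : Good θ.range [θ (repE i)] := by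
  rw [← code_repE i] at h
  exact H.node_sound [repE i] _ _ _ h fun p hp hpE hn =>
    good_near H hG [repE i] (fun e he => by rw [List.mem_singleton.1 he]; exact repE_sq hi) hp hpE hn

/-- The image contains the centralisers of its involutions. -/
theorem good_all [Finite G] {A : Sp62} (h2 : A * A = 1) (h1 : A ≠ 1) : Good θ.range [θ A] := by
  have g3 := H.good_three
  have s3 : Settled θ [repK 0, repK 3] := settled_cons H (by norm_num) g3 H.settled_zero
  have g1 := good_single H (i := 1) (by norm_num) s3 1 tree_second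
  have s1 : Settled θ [repK 0, repK 3, repK 1] := settled_cons H (by norm_num) g1 s3
  have g2 := good_single H (i := 2) (by norm_num) s1 2 tree_third
  obtain ⟨i, hi, m, rfl⟩ := exists_class h2 h1
  refine H.good_conj ?_ m
  interval_cases i
  exacts [H.good_zero, g1, g2, g3]

/-- **The image is everything.** -/
theorem range_top [Finite G] : θ.range = ⊤ := by
  set t := θ (repE 0)
  set w := θ (repE 1) with hw
  have hwM : w ∈ θ.range := ⟨_, rfl⟩
  have hne : ¬ IsConj t w := fun h => by
    obtain ⟨m, hm⟩ := (H.r_iff (repE 1)).1 (H.ctx.fus w hwM h)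
    have e := kind_conj m (repE 0)
    rw [← hm, repK_eq, repK_eq] at e
    exact absurd (repK_inj 1 (by norm_num) 0 (by norm_num) e) (by norm_num)
  have hww : w * w = 1 := by rw [hw, ← map_mul, repE_sq (by norm_num), map_one]
  have key : ∀ g : G, g * w * g⁻¹ ∈ θ.range := by
    intro g
    set b := g * w * g⁻¹ with hb
    have hbb : b * b = 1 := by
      calc b * b = g * (w * w) * g⁻¹ := by rw [hb]; group
        _ = 1 := by rw [hww]; group
    rcases dihedral H.ctx.sq hbb with ⟨d, -, hd⟩ | ⟨u, hu1, hu2, hut, hub, -, -⟩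
    · have hd' : d * b * d⁻¹ = t := hd
      exact absurd (isConj_iff.2 ⟨(d * g)⁻¹, by rw [← hd', hb]; group⟩) hne
    · obtain ⟨U, hU⟩ : ∃ U, θ U = u := H.ctx.cent u hut
      subst hU
      have hgood := H.good_all (A := U) (H.inj (by rw [map_mul, map_one, hu2]))
        (fun e => hu1 (by rw [e, map_one]))
      exact hgood b fun e he => by rw [List.mem_singleton.1 he]; exact hub.symm
  refine eq_top_iff.2 fun g _ => H.ctx.mem_of_conj (a := t) H.ctx.R_t ?_
  have hfac : ∀ v : List ℕ, g * θ (el v * repE 1 * (el v)⁻¹) * g⁻¹ ∈ θ.range := fun v => by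
    have := key (g * θ (el v))
    rwa [show g * θ (el v) * w * (g * θ (el v))⁻¹ = g * θ (el v * repE 1 * (el v)⁻¹) * g⁻¹ by
      rw [hw, map_mul, map_mul, map_inv]; group] at this
  set A := el (facW.getD 0 []) * repE 1 * (el (facW.getD 0 []))⁻¹ with hA
  set B := el (facW.getD 1 []) * repE 1 * (el (facW.getD 1 []))⁻¹ with hB
  set C := el (facW.getD 2 []) * repE 1 * (el (facW.getD 2 []))⁻¹ with hC
  have e : repE 0 = A * (B * C) := by
    apply code_inj
    rw [code_mul A, code_mul B, hA, hB, hC, code_cj, code_cj, code_cj, code_repE, code_repE, fac_ok]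
  have := mul_mem (hfac (facW.getD 0 [])) (mul_mem (hfac (facW.getD 1 [])) (hfac (facW.getD 2 [])))
  rw [← hA, ← hB, ← hC] at this
  rw [show t = θ (A * (B * C)) from congrArg θ e, map_mul θ A, map_mul θ B]
  convert this using 1
  group

end Emb

end Cfsg.Agent.CoThreeClosed
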